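import Groth.Prelude.Def_LCI2
import Groth.Agent.SamuelKoszul.TorKoszul
import Groth.Agent.H1KoszulEuler.Cone
import Groth.Agent.Koszul15.Basic
import Groth.Agent.H9Misc.TorBalance
import Mathlib

/-!
# `Tor` against a quotient by a Koszul-regular sequence
-/

set_option autoImplicit false
set_option maxHeartbeats 800000
set_option linter.style.haveILetI false
set_option backward.isDefEq.respectTransparency false
set_option backward.isDefEq.respectTransparency.types false

universe u

open CategoryTheory CategoryTheory.Limits MonoidalCategory CochainComplex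
open Groth.Agent.H9Misc.TorBalance Groth.Agent.KFlatLib Groth.Agent.H9Misc.DRingLTensor
open Groth.Agent.H1KoszulEuler Groth.Agent.SamuelKoszul

namespace Groth.Agent.KoszTor7

variable {A : Type u} [CommRing A]

/-- The Koszul complex of a Koszul-regular sequence resolves the quotient. -/
theorem exists_quasiIso (l : List A) (hl : LCI.IsKoszulRegularSeq A l) :
    ∃ π : K A l ⟶ sgl (ModuleCat.of A (A ⧸ Ideal.ofList l)), QuasiIso π := by
  obtain ⟨e'⟩ := Groth.Agent.Koszul15.nonempty_top_equiv l (ModuleCat.of A A)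
  let e : (K A l).homology 0 ≅ ModuleCat.of A (A ⧸ Ideal.ofList l) :=
    (e'.trans (Submodule.quotEquivOfEq _ _ (by rw [smul_eq_mul, Ideal.mul_top]))).toModuleIso
  have hz : ∀ i : ℤ, i ≠ 0 → IsZero ((K A l).homology i) := fun i hi => by
    have := hl i hi
    rw [← HomologicalComplex.exactAt_iff_isZero_homology, Groth.Agent.Synt29.koszul_eq,
      HomologicalComplex.exactAt_iff_isZero_homology] at this
    exact this
  let C : DRing.Cx A := K A l
  have hd : C.d 0 1 = 0 := (Koszul15.isZero_X (ModuleCat.of A A) l 1 (Or.inl one_pos)).eq_of_tgt _ _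
  haveI : IsIso (C.iCycles 0) := C.isIso_iCycles 0 1 (by simp) hd
  let f₀ : C.X 0 ⟶ ModuleCat.of A (A ⧸ Ideal.ofList l) := inv (C.iCycles 0) ≫ C.homologyπ 0 ≫ e.hom
  have hf : ∀ i : ℤ, (ComplexShape.up ℤ).Rel i 0 → C.d i 0 ≫ f₀ = 0 := fun i hi => by
    have h1 : C.d i 0 ≫ inv (C.iCycles 0) = C.toCycles i 0 := by
      rw [IsIso.comp_inv_eq, HomologicalComplex.toCycles_i]
    rw [reassoc_of% h1, HomologicalComplex.toCycles_comp_homologyπ_assoc, zero_comp]
  let π : C ⟶ sgl (ModuleCat.of A (A ⧸ Ideal.ofList l)) := HomologicalComplex.mkHomToSingle f₀ hf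
  refine ⟨π, ⟨fun i => ?_⟩⟩
  rw [quasiIsoAt_iff_isIso_homologyMap]
  by_cases hi : i = 0
  · subst hi
    let s := HomologicalComplex.singleObjHomologySelfIso (ComplexShape.up ℤ) 0
      (ModuleCat.of A (A ⧸ Ideal.ofList l))
    have key : HomologicalComplex.homologyMap π 0 ≫ s.hom = e.hom := by
      rw [← cancel_epi (C.homologyπ 0)]
      erw [HomologicalComplex.homologyπ_naturality_assoc,
        HomologicalComplex.homologyπ_singleObjHomologySelfIso_hom,
        HomologicalComplex.singleObjCyclesSelfIso_hom, HomologicalComplex.cyclesMap_i_assoc]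
      show C.iCycles 0 ≫ π.f 0 ≫ (HomologicalComplex.singleObjXSelf (ComplexShape.up ℤ) 0 _).hom = _
      erw [HomologicalComplex.mkHomToSingle_f, Category.assoc, Iso.inv_hom_id, Category.comp_id]
      simp [f₀]
    rw [show HomologicalComplex.homologyMap π 0 = e.hom ≫ s.inv from (Iso.comp_inv_eq s |>.2 key.symm).symm]
    infer_instance
  · have hb : IsZero ((sgl (ModuleCat.of A (A ⧸ Ideal.ofList l))).homology i) :=
      HomologicalComplex.isZero_single_obj_homology (ComplexShape.up ℤ) 0 _ i hi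
    exact ⟨hb.to_ _, (hz i hi).eq_of_src _ _, hb.eq_of_src _ _⟩

/-- `Tor_n(A/(l), N)` is Koszul homology for a Koszul-regular sequence. -/
theorem nonempty_tor_iso (l : List A) (hl : LCI.IsKoszulRegularSeq A l) (N : ModuleCat.{u} A) (n : ℕ) :
    Nonempty (((Tor (ModuleCat.{u} A) n).obj (ModuleCat.of A (A ⧸ Ideal.ofList l))).obj N ≅
      (DRing.tensorCx (K A l) N).homology (-n : ℤ)) := by
  obtain ⟨π, hπ⟩ := exists_quasiIso l hl
  haveI := hπ
  let Q := ProjectiveResolution.of N
  let cL : ((T (A := A)).obj (K A l)).obj Q.cochainComplex ⟶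
      (tensC (ModuleCat.of A (A ⧸ Ideal.ofList l))).obj Q.cochainComplex :=
    ((T (A := A)).map π).app Q.cochainComplex ≫ (sglLeftIso _).hom.app Q.cochainComplex
  let cR : ((T (A := A)).obj (K A l)).obj Q.cochainComplex ⟶ (tensC N).obj (K A l) :=
    ((T (A := A)).obj (K A l)).map Q.π' ≫ (sglRightIso N).hom.app (K A l)
  have hL : QuasiIso cL := by
    haveI := (isKF_cochainComplex Q).quasiIso_map π
    haveI : QuasiIso ((sglLeftIso (ModuleCat.of A (A ⧸ Ideal.ofList l))).hom.app Q.cochainComplex) :=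
      inferInstanceAs (QuasiIso
        ((sglLeftIso (ModuleCat.of A (A ⧸ Ideal.ofList l))).app Q.cochainComplex).hom)
    exact quasiIso_comp _ _
  have hR : QuasiIso cR := by
    haveI := (isKF_K l).quasiIso_map' curriedTensorFlipIso Q.π'
    haveI : QuasiIso ((sglRightIso N).hom.app (K A l)) :=
      inferInstanceAs (QuasiIso ((sglRightIso N).app (K A l)).hom)
    exact quasiIso_comp _ _
  haveI := hL
  haveI := hR
  exact ⟨torIso _ Q n ≪≫ (isoOfQuasiIsoAt cL (-n : ℤ)).symm ≪≫ isoOfQuasiIsoAt cR (-n : ℤ)⟩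

variable {B : Type u} [CommRing B] (φ : A →+* B)

/-- Koszul complexes commute with restriction of scalars. -/
theorem nonempty_restrict_iso (N : ModuleCat.{u} B) : ∀ l : List A,
    Nonempty (((ModuleCat.restrictScalars φ).mapHomologicalComplex (ComplexShape.up ℤ)).obj
      (CohIII.koszulCx N (l.map φ)) ≅ CohIII.koszulCx ((ModuleCat.restrictScalars φ).obj N) l)
  | [] => ⟨(HomologicalComplex.singleMapHomologicalComplex (ModuleCat.restrictScalars φ)
      (ComplexShape.up ℤ) 0).app N⟩
  | f :: l => by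
    obtain ⟨e⟩ := nonempty_restrict_iso N l
    let F := (ModuleCat.restrictScalars φ).mapHomologicalComplex (ComplexShape.up ℤ)
    have hsm : F.map (φ f • 𝟙 (CohIII.koszulCx N (l.map φ))) =
        f • 𝟙 (F.obj (CohIII.koszulCx N (l.map φ))) := by
      ext n x
      rfl
    refine ⟨mappingCone.mapHomologicalComplexIso (φ f • 𝟙 (CohIII.koszulCx N (l.map φ)))
      (ModuleCat.restrictScalars φ) ≪≫ ?_⟩
    refine coneCongr e e ?_ ?_
    · rw [hsm]; simp [Linear.smul_comp, Linear.comp_smul, F]
    · rw [hsm]; simp [Linear.smul_comp, Linear.comp_smul, F]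

/-- The higher `Tor` against the base change of a Koszul-regular quotient vanish. -/
theorem isZero_tor_succ (l : List A) (hl : LCI.IsKoszulRegularSeq A l) [Algebra A B]
    (hl' : LCI.IsKoszulRegularSeq B (l.map (algebraMap A B))) (i : ℕ) :
    IsZero (((Tor (ModuleCat.{u} A) (i + 1)).obj (ModuleCat.of A (A ⧸ Ideal.ofList l))).obj
      (ModuleCat.of A B)) := by
  let N : ModuleCat.{u} A := (ModuleCat.restrictScalars (algebraMap A B)).obj (ModuleCat.of B B)
  have hN : IsZero (((Tor (ModuleCat.{u} A) (i + 1)).obj (ModuleCat.of A (A ⧸ Ideal.ofList l))).obj N) := by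
    obtain ⟨e⟩ := nonempty_tor_iso l hl N (i + 1)
    obtain ⟨e₁⟩ := H1KoszulEuler.nonempty_tensor_iso N l
    rw [Groth.Agent.Synt29.koszul_eq] at e₁
    obtain ⟨e₂⟩ := nonempty_restrict_iso (algebraMap A B) (ModuleCat.of B B) l
    have h0 := hl' (-((i + 1 : ℕ) : ℤ)) (by omega)
    rw [← HomologicalComplex.exactAt_iff_isZero_homology, Groth.Agent.Synt29.koszul_eq] at h0
    refine IsZero.of_iso ?_ (e ≪≫ HomologicalComplex.homologyMapIso e₁ _)
    rw [← HomologicalComplex.exactAt_iff_isZero_homology]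
    have h1 : (((ModuleCat.restrictScalars (algebraMap A B)).mapHomologicalComplex
        (ComplexShape.up ℤ)).obj (CohIII.koszulCx (ModuleCat.of B B) (l.map (algebraMap A B)))).ExactAt
          (-((i + 1 : ℕ) : ℤ)) := h0.map (ModuleCat.restrictScalars (algebraMap A B))
    exact h1.of_iso e₂
  let j : ModuleCat.of A B ≅ N := LinearEquiv.toModuleIso
    (X₁ := B) (X₂ := N) (g₁ := inferInstance) (g₂ := inferInstance) (m₁ := inferInstance) (m₂ := inferInstance)
    { toFun := fun x => x, invFun := fun x => x, map_add' := fun _ _ => rfl,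
      map_smul' := fun a x => Algebra.smul_def a x, left_inv := fun _ => rfl, right_inv := fun _ => rfl }
  exact IsZero.of_iso hN (((Tor (ModuleCat.{u} A) (i + 1)).obj _).mapIso j)

/-- `Tor` vanishing passes to finite powers. -/
theorem isZero_tor_pi (M : Type u) [AddCommGroup M] [Module A M] (N : ModuleCat.{u} A) (n : ℕ)
    (h : IsZero (((Tor (ModuleCat.{u} A) n).obj (ModuleCat.of A M)).obj N)) (ι : Type) [Fintype ι] :
    IsZero (((Tor (ModuleCat.{u} A) n).obj (ModuleCat.of A (ι → M))).obj N) := by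
  classical
  let P : ProjectiveResolution N := ProjectiveResolution.of _
  let c := ComplexShape.down ℕ
  let C : ModuleCat.{u} A → ChainComplex (ModuleCat.{u} A) ℕ := fun X =>
    ((((tensoringLeft (ModuleCat.{u} A)).obj X)).mapHomologicalComplex c).obj P.complex
  let F : ∀ {X Y : ModuleCat.{u} A}, (X ⟶ Y) → (C X ⟶ C Y) := fun f =>
    (NatTrans.mapHomologicalComplex ((tensoringLeft (ModuleCat.{u} A)).map f) c).app P.complex
  have key : ∀ X : ModuleCat.{u} A,
      IsZero (((Tor (ModuleCat.{u} A) n).obj X).obj N) ↔ IsZero ((C X).homology n) := fun X =>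
    Iso.isZero_iff (P.isoLeftDerivedObj ((tensoringLeft (ModuleCat.{u} A)).obj X) n)
  rw [key] at h ⊢
  let a : ι → (ModuleCat.of A M ⟶ ModuleCat.of A (ι → M)) := fun j =>
    ModuleCat.ofHom (LinearMap.single A (fun _ : ι => M) j)
  let b : ι → (ModuleCat.of A (ι → M) ⟶ ModuleCat.of A M) := fun j =>
    ModuleCat.ofHom (LinearMap.proj j)
  have hid : 𝟙 (ModuleCat.of A (ι → M)) = ∑ j, b j ≫ a j := by
    refine ModuleCat.hom_ext ?_
    rw [ModuleCat.hom_sum]
    ext x k
    simp [a, b, Pi.single_apply]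
  have hsum : 𝟙 (C (ModuleCat.of A (ι → M))) = ∑ j, F (b j) ≫ F (a j) := by
    ext q : 1
    rw [← HomologicalComplex.eval_map, ← HomologicalComplex.eval_map, Functor.map_sum]
    show 𝟙 _ = ∑ j, (b j ▷ P.complex.X q) ≫ (a j ▷ P.complex.X q)
    simp only [← comp_whiskerRight]
    rw [← sum_whiskerRight, ← hid, id_whiskerRight]
  rw [IsZero.iff_id_eq_zero, ← HomologicalComplex.homologyMap_id, hsum,
    ← HomologicalComplex.homologyFunctor_map, Functor.map_sum]
  exact Finset.sum_eq_zero fun j _ => by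
    rw [Functor.map_comp, h.eq_of_tgt ((HomologicalComplex.homologyFunctor _ c n).map (F (b j))) 0,
      zero_comp]

end Groth.Agent.KoszTor7
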